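import Cfsg.Prelude.Def_OddOrderLocal
import Cfsg.Agent.Lib.FrobCompl.FpfModule
import Cfsg.Agent.Lib.PerfectCompl.Nonsolvable

/-!
# A trivial intersection Hall subgroup acting coprimely acts fixed point freely on a section
-/

set_option autoImplicit false
set_option linter.style.haveILetI false
set_option linter.unusedSectionVars false

open scoped Classical commutatorElement

namespace CfsgLib.TIHall

open CfsgLib.FrobCompl

universe u v

/-- A coprime action on a finite abelian group in which an element with a fixed point `v` forces all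
of the group to fix `v`, and which is not trivial, contains a fixed-point-free action. -/
theorem hasFpf_of_abelian {K : Type u} [Group K] [Finite K] {V : Type v} [CommGroup V] [Finite V]
    (α : K →* MulAut V) (hco : (Nat.card V).Coprime (Nat.card K))
    (hfix : ∀ k : K, k ≠ 1 → ∀ v, α k v = v → ∀ k' : K, α k' v = v)
    (hnt : ∃ k v, α k v ≠ v) : HasFpf K := by
  haveI : Fintype K := Fintype.ofFinite K
  let T : V →* V :=
    { toFun := fun v => ∏ k : K, α k v
      map_one' := by simp
      map_mul' := fun a b => by simp [Finset.prod_mul_distrib] }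
  have hT : ∀ k v, α k (T v) = T v := fun k v => by
    show α k (∏ x : K, α x v) = ∏ x : K, α x v
    rw [map_prod]
    refine Fintype.prod_equiv (Equiv.mulLeft k) _ _ fun x => ?_
    show α k (α x v) = α (k * x) v
    rw [map_mul]; rfl
  have hT' : ∀ k v, T (α k v) = T v := fun k v => by
    show ∏ x : K, α x (α k v) = ∏ x : K, α x v
    refine Fintype.prod_equiv (Equiv.mulRight k) _ _ fun x => ?_
    show α x (α k v) = α (x * k) v
    rw [map_mul]; rfl
  let W : Subgroup V := T.ker
  have hW : ∀ k, ∀ w ∈ W, α k w ∈ W := fun k w hw => by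
    rw [MonoidHom.mem_ker, hT']; exact hw
  let σ : K → AddMonoid.End (Additive W) := fun k => MonoidHom.toAdditive
    { toFun := fun w => ⟨α k w, hW k w w.2⟩
      map_one' := Subtype.ext (by simp)
      map_mul' := fun a b => Subtype.ext (by simp) }
  let e : Additive W ≃+ Shrink.{0} (Additive W) := (Shrink.addEquiv).symm
  haveI : Finite (Shrink.{0} (Additive W)) := Finite.of_equiv _ e.toEquiv
  let ρ : K →* AddMonoid.End (Shrink.{0} (Additive W)) :=
    { toFun := fun k => e.toAddMonoidHom.comp ((σ k).comp e.symm.toAddMonoidHom)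
      map_one' := AddMonoidHom.ext fun x => by
        have h : σ 1 (e.symm x) = e.symm x := Additive.toMul.injective (Subtype.ext (by
          show α 1 ((e.symm x).toMul : V) = ((e.symm x).toMul : V)
          simp))
        show e (σ 1 (e.symm x)) = x
        rw [h, AddEquiv.apply_symm_apply]
      map_mul' := fun a b => AddMonoidHom.ext fun x => by
        show e (σ (a * b) (e.symm x)) = e (σ a (e.symm (e (σ b (e.symm x)))))
        rw [AddEquiv.symm_apply_apply]
        exact congrArg e (Additive.toMul.injective (Subtype.ext (by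
          show α (a * b) ((e.symm x).toMul : V) = α a (α b ((e.symm x).toMul : V))
          rw [map_mul]; rfl))) }
  haveI : Nontrivial W := by
    rw [Subgroup.nontrivial_iff_ne_bot]
    intro hbot
    obtain ⟨k, v, hkv⟩ := hnt
    have hall : ∀ v, T v = v ^ Nat.card K := fun v => by
      have hmem : (T v)⁻¹ * v ^ Nat.card K ∈ W := by
        rw [MonoidHom.mem_ker, map_mul, map_inv, map_pow]
        have : T (T v) = T v ^ Nat.card K := by
          show ∏ x : K, α x (T v) = _
          rw [Finset.prod_congr rfl fun x _ => hT x v, Finset.prod_const, Finset.card_univ, Nat.card_eq_fintype_card]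
        rw [this, inv_mul_cancel]
      rw [hbot, Subgroup.mem_bot, inv_mul_eq_one] at hmem
      exact hmem
    refine hkv ((powCoprime hco).injective ?_)
    show α k v ^ Nat.card K = v ^ Nat.card K
    rw [← hall, ← hall, hT']
  haveI : Nontrivial (Shrink.{0} (Additive W)) := e.symm.toEquiv.nontrivial
  refine ⟨Shrink.{0} (Additive W), inferInstance, inferInstance, inferInstance, ρ, fun k hk x hx => ?_⟩
  have h1 : σ k (e.symm x) = e.symm x := e.injective (by rw [AddEquiv.apply_symm_apply]; exact hx)
  set w : W := (e.symm x).toMul with hw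
  have h2 : α k (w : V) = w := congrArg (fun y : Additive W => (y.toMul : V)) h1
  have hTw : T (w : V) = (w : V) ^ Nat.card K := by
    show ∏ y : K, α y (w : V) = _
    rw [Finset.prod_congr rfl fun y _ => hfix k hk _ h2 y, Finset.prod_const, Finset.card_univ, Nat.card_eq_fintype_card]
  have h3 : (w : V) ^ Nat.card K = (1 : V) ^ Nat.card K := by
    rw [← hTw, one_pow]; exact w.2
  have h4 : w = 1 := Subtype.ext ((powCoprime hco).injective h3)
  apply e.symm.injective
  rw [map_zero]
  exact Additive.toMul.injective (by rw [toMul_zero, ← hw, h4])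

variable {G : Type u} [Group G] [Finite G] {H : Subgroup G}

theorem mem_normalizer_of_commute (hTI : Cfsg.IsTISubset (H : Set G)) {h a : G} (hh : h ∈ H) (h1 : h ≠ 1)
    (hc : Commute h a) : a ∈ Subgroup.normalizer (H : Set G) := by
  by_contra ha
  refine h1 (hTI a ha h hh ?_)
  rw [← hc.eq, mul_inv_cancel_right]
  exact hh

/-- A trivial intersection subgroup acting coprimely and nontrivially on a solvable normal subgroup
has a fixed-point-free module. -/
theorem hasFpf_of_ti (hTI : Cfsg.IsTISubset (H : Set G)) (O : Subgroup G) [O.Normal] (hsol : Group.IsSolvable O)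
    (hco : (Nat.card O).Coprime (Nat.card H)) (hne : ¬ O ≤ Subgroup.normalizer (H : Set G)) : HasFpf H := by
  set N := Subgroup.normalizer (H : Set G)
  have hcent : ∀ o ∈ O, o ∈ N → ∀ h ∈ H, Commute h o := by
    intro o ho hoN h hh
    have hmem : h * o * h⁻¹ * o⁻¹ ∈ O ⊓ H := Subgroup.mem_inf.mpr ⟨mul_mem ((inferInstance : O.Normal).conj_mem o ho h) (inv_mem ho), by
      rw [show h * o * h⁻¹ * o⁻¹ = h * (o * h⁻¹ * o⁻¹) by group]
      exact mul_mem hh (((Subgroup.mem_normalizer_iff (H := H)).mp hoN _).mp (show h⁻¹ ∈ H from inv_mem hh))⟩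
    rw [Subgroup.inf_eq_bot_of_coprime hco, Subgroup.mem_bot, mul_inv_eq_one, mul_inv_eq_iff_eq_mul] at hmem
    exact hmem
  obtain ⟨n, hn⟩ := hsol.solvable
  let D : ℕ → Subgroup G := fun i => (derivedSeries O i).map O.subtype
  obtain ⟨i, hA, hM⟩ : ∃ i, ¬ D i ≤ N ∧ D (i + 1) ≤ N := by
    by_contra hno
    push Not at hno
    have hall : ∀ i, ¬ D i ≤ N := fun i => by
      induction i with
      | zero =>
        show ¬ (derivedSeries O 0).map O.subtype ≤ N
        rw [derivedSeries_zero, ← MonoidHom.range_eq_map, Subgroup.range_subtype]; exact hne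
      | succ i ih => exact hno i ih
    exact hall n (by show (derivedSeries O n).map O.subtype ≤ N; rw [hn, Subgroup.map_bot]; exact bot_le)
  set A := D i with hAdef
  set M := D (i + 1) with hMdef
  have hAO : A ≤ O := Subgroup.map_subtype_le _
  have hAn : A.Normal := by
    haveI := derivedSeries_characteristic O i
    exact ConjAct.normal_of_characteristic_of_normal
  haveI := hAn
  have hMn : M.Normal := by
    haveI := derivedSeries_characteristic O (i + 1)
    exact ConjAct.normal_of_characteristic_of_normal
  haveI := hMn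
  have hMA : M = ⁅A, A⁆ := by
    show (derivedSeries O (i + 1)).map O.subtype = _
    rw [derivedSeries_succ, Subgroup.map_commutator]
  have hMle : M ≤ A := hMA ▸ Subgroup.commutator_le_left A A
  set M' := M.subgroupOf A
  haveI : M'.Normal := Subgroup.normal_subgroupOf
  letI : CommGroup (A ⧸ M') :=
    { (inferInstance : Group (A ⧸ M')) with
      mul_comm := fun a b => by
        induction a using QuotientGroup.induction_on with
        | _ a =>
          induction b using QuotientGroup.induction_on with
          | _ b =>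
            rw [← QuotientGroup.mk_mul, ← QuotientGroup.mk_mul, QuotientGroup.eq, Subgroup.mem_subgroupOf, hMA]
            have : ((a * b)⁻¹ * (b * a) : A) = ⁅b⁻¹, a⁻¹⁆ := by rw [commutatorElement_def]; group
            rw [this, commutatorElement_def]
            exact Subgroup.commutator_mem_commutator (inv_mem b.2) (inv_mem a.2) }
  have hmap : ∀ h : H, M'.map ((MulAut.conjNormal (H := A) (h : G))).toMonoidHom = M' := fun h => by
    refine Subgroup.eq_of_le_of_card_ge ?_ (Subgroup.card_map_of_injective (MulEquiv.injective _)).ge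
    rintro _ ⟨a, ha, rfl⟩
    exact hMn.conj_mem _ ha (h : G)
  let α : H →* MulAut (A ⧸ M') :=
    { toFun := fun h => QuotientGroup.congr M' M' (MulAut.conjNormal (h : G)) (hmap h)
      map_one' := MulEquiv.ext fun x => by
        obtain ⟨x, rfl⟩ := QuotientGroup.mk'_surjective M' x
        refine congrArg (QuotientGroup.mk' M') ?_
        exact Subtype.ext (by simp [MulAut.conjNormal_apply])
      map_mul' := fun a b => MulEquiv.ext fun x => by
        obtain ⟨x, rfl⟩ := QuotientGroup.mk'_surjective M' x
        refine congrArg (QuotientGroup.mk' M') ?_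
        exact Subtype.ext (by simp [MulAut.conjNormal_apply, mul_assoc]) }
  have hcopA : (Nat.card A).Coprime (Nat.card H) := hco.coprime_dvd_left (Subgroup.card_dvd_of_le hAO)
  -- a fixed class contains only fixed elements
  have hkey : ∀ (h : H) (a : A), α h (a : A ⧸ M') = (a : A ⧸ M') → Commute (h : G) (a : G) := by
    intro h a e
    have e' : ((MulAut.conjNormal (h : G) a : A) : A ⧸ M') = (a : A ⧸ M') := e
    have hm : (a : G)⁻¹ * ((h : G) * a * (h : G)⁻¹) ∈ M := by
      have := QuotientGroup.eq.mp e'.symm
      have h' := Subgroup.mem_subgroupOf.mp this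
      simpa [MulAut.conjNormal_apply] using h'
    set m := (a : G)⁻¹ * ((h : G) * a * (h : G)⁻¹) with hmdef
    have hc : Commute (h : G) m := hcent m (hAO (hMle hm)) (hM hm) h h.2
    have hk : ∀ k : ℕ, (h : G) ^ k * a * ((h : G) ^ k)⁻¹ = a * m ^ k := by
      intro k
      induction k with
      | zero => simp
      | succ k ih =>
        calc (h : G) ^ (k + 1) * a * ((h : G) ^ (k + 1))⁻¹
            = (h : G) * ((h : G) ^ k * a * ((h : G) ^ k)⁻¹) * (h : G)⁻¹ := by rw [pow_succ']; group
          _ = ((h : G) * a * (h : G)⁻¹) * ((h : G) * m ^ k * (h : G)⁻¹) := by rw [ih]; group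
          _ = a * m * m ^ k := by
            rw [(hc.pow_right k).eq, mul_inv_cancel_right, show (h : G) * a * (h : G)⁻¹ = a * m by rw [hmdef]; group]
          _ = a * m ^ (k + 1) := by rw [mul_assoc, ← pow_succ']
    have h1 := hk (orderOf (h : G))
    rw [pow_orderOf_eq_one, inv_one, mul_one, one_mul, left_eq_mul] at h1
    have hm1 : m = 1 := orderOf_eq_one_iff.mp (Nat.eq_one_of_dvd_coprimes hco
      (Subgroup.orderOf_dvd_natCard O (hAO (hMle hm)))
      ((orderOf_dvd_of_pow_eq_one h1).trans (Subgroup.orderOf_dvd_natCard H h.2)))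
    rw [hmdef, inv_mul_eq_one] at hm1
    exact mul_inv_eq_iff_eq_mul.mp hm1.symm
  refine hasFpf_of_abelian α ((Nat.Coprime.coprime_dvd_left (Subgroup.card_quotient_dvd_card M') hcopA)) ?_ ?_
  · intro h h1 v hv h'
    induction v using QuotientGroup.induction_on with
    | _ a =>
      have hN := mem_normalizer_of_commute hTI h.2 (fun e => h1 (Subtype.ext e)) (hkey h a hv)
      show ((MulAut.conjNormal (h' : G) a : A) : A ⧸ M') = (a : A ⧸ M')
      refine congrArg _ (Subtype.ext ?_)
      rw [MulAut.conjNormal_apply, (hcent a (hAO a.2) hN h' h'.2).eq, mul_inv_cancel_right]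
  · by_contra hno
    push Not at hno
    refine hA fun a ha => ?_
    have hc : ∀ h : H, Commute (h : G) a := fun h => hkey h ⟨a, ha⟩ (hno h _)
    refine Subgroup.mem_normalizer_fintype fun h hh => ?_
    rw [← (hc ⟨h, hh⟩).eq, mul_inv_cancel_right]
    exact hh

end CfsgLib.TIHall
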