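import Cfsg.Agent.Lib.TIHall.Fpf
import Cfsg.Agent.Lib.Invol.SolvableCore
import Cfsg.Agent.Lib.Signalizer.Setup
import Cfsg.Agent.Lib.PSolvable.Core
import Cfsg.Agent.Lib.Fitting.Basic
import Cfsg.Agent.Lib.PerfectCompl.Nonsolvable
import Cfsg.Agent.S3742
import Cfsg.Agent.S4337

/-!
# Separable groups with a trivial intersection Hall subgroup
-/

set_option autoImplicit false
set_option linter.style.haveILetI false
set_option linter.unusedSectionVars false

open scoped Classical

namespace CfsgLib.TIHall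

open CfsgLib.FrobCompl CfsgLib.PerfectCompl

universe u

/-- A coprime product of normal subgroups. -/
theorem sSup_coprime {G : Type u} [Group G] [Finite G] (n : ℕ) :
    (Nat.card (sSup {K : Subgroup G | K.Normal ∧ (Nat.card K).Coprime n} : Subgroup G)).Coprime n := by
  let S : Set (Subgroup G) := {K | K.Normal ∧ (Nat.card K).Coprime n}
  have key : ∀ T : Finset (Subgroup G), (↑T : Set (Subgroup G)) ⊆ S →
      (T.sup id).Normal ∧ (Nat.card (T.sup id : Subgroup G)).Coprime n := by
    intro T
    induction T using Finset.induction_on with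
    | empty => intro _; rw [Finset.sup_empty]; exact ⟨inferInstance, by rw [Subgroup.card_bot]; exact Nat.coprime_one_left n⟩
    | insert K T _ ih =>
      intro hsub
      rw [Finset.coe_insert, Set.insert_subset_iff] at hsub
      obtain ⟨h1, h2⟩ := ih hsub.2
      rw [Finset.sup_insert, id_eq]
      haveI := hsub.1.1
      haveI := h1
      refine ⟨Subgroup.sup_normal _ _, ?_⟩
      set T' := T.sup id
      have e2 := Subgroup.relIndex_mul_relIndex ⊥ K (K ⊔ T') bot_le le_sup_left
      rw [Subgroup.relIndex_bot_left, Subgroup.relIndex_bot_left, Subgroup.relIndex_sup_left] at e2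
      rw [← e2]
      exact Nat.Coprime.mul_left hsub.1.2 (h2.coprime_dvd_left
        ((Subgroup.inf_relIndex_right K T').symm ▸ Subgroup.relIndex_dvd_card (K ⊓ T') T'))
  have heq : sSup S = (Set.toFinite S).toFinset.sup id := by
    rw [Finset.sup_id_eq_sSup, Set.Finite.coe_toFinset]
  show (Nat.card (sSup S : Subgroup G)).Coprime n
  rw [heq]
  exact (key _ (by simp)).2

theorem solvable_mulAut_pCore {K : Type u} [Group K] [Finite K] (hK : HasFpf K) (p : ℕ) (hp : p.Prime) :
    Group.IsSolvable (MulAut (Cfsg.pCore p K)) := by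
  haveI := Fact.mk hp
  set F := Cfsg.pCore p K
  have hF : IsPGroup p F := CfsgLib.Fitting.pCore_isPGroup p
  by_cases hp2 : p = 2
  · subst hp2
    rcases CfsgLib.Invol.mulAut_or_quaternion_eight hF (fun x y hx hy => Subtype.ext (involution_eq hK
      ((Subgroup.orderOf_coe x).trans hx) ((Subgroup.orderOf_coe y).trans hy))) with h | ⟨⟨e⟩⟩
    · haveI := h.isNilpotent
      infer_instance
    · obtain ⟨eP⟩ := Cfsg.Agent.S3742.result
      haveI := CfsgLib.SmallPerm.isSolvable_perm_fin_four
      exact solvable_of_solvable_injective (f := ((MulAut.congr e).trans eP).toMonoidHom) (MulEquiv.injective _)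
  · obtain ⟨P, hP⟩ := ((hF.to_subgroup (⊤ : Subgroup F))).exists_le_sylow
    haveI := cyclic_sylow_odd hK hp2 P
    haveI := Subgroup.isCyclic_of_le hP
    haveI : IsCyclic F := Subgroup.topEquiv.isCyclic.mp inferInstance
    exact Group.isSolvable_of_comm fun a b =>
      (IsCyclic.mulAutMulEquiv F).injective (by rw [map_mul, map_mul]; exact mul_comm _ _)

/-- A finite group with a family of homomorphisms to solvable groups with solvable common kernel is
solvable. -/
theorem solvable_of_family {B : Type u} [Group B] {ι : Type*} (s : Finset ι) {T : ι → Type u} [∀ i, Group (T i)]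
    (hT : ∀ i ∈ s, Group.IsSolvable (T i)) (φ : ∀ i, B →* T i) (K : Subgroup B) [K.Normal]
    (hK : Group.IsSolvable K) (hle : ∀ b, (∀ i ∈ s, φ i b = 1) → b ∈ K) : Group.IsSolvable B := by
  obtain ⟨n, hn⟩ : ∃ n, ∀ i ∈ s, ∀ b ∈ derivedSeries B n, φ i b = 1 := by
    clear hle
    induction s using Finset.induction_on with
    | empty => exact ⟨0, fun i hi => absurd hi (Finset.notMem_empty i)⟩
    | insert j s _ ih =>
      obtain ⟨n, hn⟩ : ∃ n, ∀ i ∈ s, ∀ b ∈ derivedSeries B n, φ i b = 1 := by
        exact (ih (fun i hi => hT i (Finset.mem_insert_of_mem hi)))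
      obtain ⟨m, hm⟩ := (hT j (Finset.mem_insert_self j s)).solvable
      refine ⟨n + m, fun i hi b hb => ?_⟩
      rcases Finset.mem_insert.mp hi with rfl | hi
      · have := map_derivedSeries_le_derivedSeries (φ i) m (Subgroup.mem_map_of_mem (φ i)
          (derivedSeries_antitone B (Nat.le_add_left m n) hb))
        rwa [hm, Subgroup.mem_bot] at this
      · exact hn i hi b (derivedSeries_antitone B (Nat.le_add_right n m) hb)
  haveI : Group.IsSolvable (B ⧸ K) := ⟨⟨n, by
    rw [← map_derivedSeries_eq (QuotientGroup.mk'_surjective K) n, eq_bot_iff]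
    rintro _ ⟨b, hb, rfl⟩
    exact Subgroup.mem_bot.mpr ((QuotientGroup.eq_one_iff b).mpr (hle b fun i hi => hn i hi b hb))⟩⟩
  haveI := hK
  exact solvable_of_ker_le_range K.subtype (QuotientGroup.mk' K) (by rw [QuotientGroup.ker_mk', Subgroup.range_subtype])

/-- A group with no nontrivial normal subgroup of order coprime to a normal Hall subgroup which is
solvable and acts fixed point freely on some module is solvable. -/
theorem solvable_of_normal_hall {B : Type u} [Group B] [Finite B] (L : Subgroup B) [L.Normal]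
    (hL : Group.IsSolvable L) (hfpf : HasFpf L) (hco : (Nat.card L).Coprime L.index)
    (hcore : ∀ K : Subgroup B, K.Normal → (Nat.card K).Coprime (Nat.card L) → K = ⊥) : Group.IsSolvable B := by
  let F : ℕ → Subgroup B := fun p => (Cfsg.pCore p L).map L.subtype
  have hFn : ∀ p, (F p).Normal := fun p => by
    haveI := CfsgLib.Signalizer.pCore_characteristic (G := L) p
    exact ConjAct.normal_of_characteristic_of_normal
  haveI := hFn
  set K := ⨅ p ∈ (Nat.card L).primeFactors, Subgroup.centralizer (F p : Set B) with hKdef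
  haveI hKn : K.Normal := Subgroup.normal_iInf_normal fun p => Subgroup.normal_iInf_normal fun _ => inferInstance
  have hKL : ∀ k ∈ K, ∀ l, l ∈ Cfsg.fittingSubgroup L → Commute k (l : B) := by
    intro k hk
    let Y : Subgroup L := (Subgroup.centralizer {k}).comap L.subtype
    have hY : Cfsg.fittingSubgroup L ≤ Y := CfsgLib.Signalizer.fittingSubgroup_le_of_pCore_le fun p hp x hx => by
      rw [Subgroup.mem_comap, Subgroup.mem_centralizer_singleton_iff]
      by_cases hpL : p ∈ (Nat.card L).primeFactors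
      · rw [hKdef, Subgroup.mem_iInf] at hk
        have hk' := Subgroup.mem_iInf.mp (hk p) hpL
        exact (Subgroup.mem_centralizer_iff.mp hk' _ ⟨x, hx, rfl⟩)
      · haveI := Fact.mk hp
        obtain ⟨j, hj⟩ := IsPGroup.iff_orderOf.mp (CfsgLib.Fitting.pCore_isPGroup (G := L) p) ⟨x, hx⟩
        rw [Subgroup.orderOf_mk] at hj
        rcases Nat.eq_zero_or_pos j with rfl | hj0
        · rw [pow_zero, orderOf_eq_one_iff] at hj
          rw [hj, map_one, one_mul, mul_one]
        · exact absurd (Nat.mem_primeFactors.mpr ⟨hp, (dvd_pow_self p hj0.ne').trans (hj ▸ orderOf_dvd_natCard x),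
            Nat.card_pos.ne'⟩) hpL
    intro l hl
    exact (Subgroup.mem_centralizer_singleton_iff.mp (hY hl)).symm
  -- `K ⊓ L` is central in `K`
  set Z := (K ⊓ L).subgroupOf K
  have hZc : ∀ a ∈ K ⊓ L, ∀ k ∈ K, Commute k a := by
    intro a ha k hk
    haveI := hL
    have hc : (⟨a, ha.2⟩ : L) ∈ Subgroup.centralizer (Cfsg.fittingSubgroup L : Set L) :=
      Subgroup.mem_centralizer_iff.mpr fun l hl => Subtype.ext (hKL a ha.1 l hl).eq.symm
    exact hKL k hk ⟨a, ha.2⟩ (CfsgLib.PSolvable.centralizer_fittingSubgroup_le hc)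
  have hZco : Nat.Coprime (Nat.card Z) Z.index := by
    refine Nat.Coprime.coprime_dvd_left ?_ (hco.coprime_dvd_right ?_)
    · rw [Nat.card_congr (Subgroup.subgroupOfEquivOfLe (inf_le_left : K ⊓ L ≤ K)).toEquiv]
      exact Subgroup.card_dvd_of_le inf_le_right
    · show (K ⊓ L).relIndex K ∣ L.index
      rw [inf_comm, Subgroup.inf_relIndex_right]
      exact Subgroup.relIndex_dvd_index_of_normal L K
  haveI : Z.Normal := Subgroup.normal_subgroupOf
  obtain ⟨Y, hY⟩ := Subgroup.exists_right_complement'_of_coprime hZco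
  -- the complement is the set of elements of order coprime to that of `L`
  have hZco' : ∀ y : Y, ∀ z : Z, Commute (y : K) (z : K) := fun y z =>
    Subtype.ext (hZc _ z.2 _ (y : K).2).eq
  have hYn : Y.Normal := by
    refine ⟨fun y hy g => ?_⟩
    obtain ⟨⟨z, y'⟩, rfl⟩ := hY.2 g
    show (z : K) * (y' : K) * y * ((z : K) * (y' : K))⁻¹ ∈ Y
    have h1 := hZco' ⟨_, mul_mem (mul_mem y'.2 hy) (inv_mem y'.2)⟩ z
    rw [show (z : K) * (y' : K) * y * ((z : K) * (y' : K))⁻¹ = (z : K) * ((y' : K) * y * (y' : K)⁻¹) * (z : K)⁻¹ by group,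
      ← h1.eq, mul_inv_cancel_right]
    exact mul_mem (mul_mem y'.2 hy) (inv_mem y'.2)
  haveI := hYn
  have hYidx : Y.index = Nat.card Z := hY.index_eq_card
  have hYcard : Nat.card Y = Z.index := hY.symm.index_eq_card.symm
  have hcopY : (Nat.card Y).Coprime (Nat.card L) := by
    rw [hYcard]
    refine Nat.Coprime.coprime_dvd_left ?_ hco.symm
    show (K ⊓ L).relIndex K ∣ L.index
    rw [inf_comm, Subgroup.inf_relIndex_right]
    exact Subgroup.relIndex_dvd_index_of_normal L K
  have hYchar : Y.Characteristic := Subgroup.characteristic_iff_le_map.mpr fun φ => by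
    intro y hy
    refine ⟨φ.symm y, ?_, φ.apply_symm_apply y⟩
    refine mem_of_coprime_index ?_
    rw [hYidx, MulEquiv.orderOf_eq]
    refine (hZco.symm.coprime_dvd_left ?_)
    rw [← hYcard]
    exact Subgroup.orderOf_dvd_natCard Y hy
  have hYB : (Y.map K.subtype).Normal := ConjAct.normal_of_characteristic_of_normal
  have hY1 : Y = ⊥ := by
    have := hcore _ hYB (by rw [Subgroup.card_map_of_injective K.subtype_injective]; exact hcopY)
    exact (Subgroup.map_eq_bot_iff_of_injective _ K.subtype_injective).mp this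
  have hKle : K ≤ L := by
    intro k hk
    obtain ⟨⟨z, y⟩, hzy⟩ := hY.2 (⟨k, hk⟩ : K)
    have hy : (y : K) = 1 := Subgroup.mem_bot.mp (hY1 ▸ y.2)
    have : (z : K) = ⟨k, hk⟩ := by rw [← hzy]; show (z : K) = (z : K) * (y : K); rw [hy, mul_one]
    have hz := z.2.2
    rw [this] at hz
    exact hz
  haveI := hL
  refine solvable_of_family (Nat.card L).primeFactors (T := fun p => MulAut (F p)) ?_
    (fun p => MulAut.conjNormal) K (solvable_of_solvable_injective (Subgroup.inclusion_injective hKle)) ?_
  · intro p hp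
    haveI := solvable_mulAut_pCore hfpf p (Nat.mem_primeFactors.mp hp).1
    exact solvable_of_surjective (f := (MulAut.congr ((Cfsg.pCore p L).equivMapOfInjective L.subtype
      L.subtype_injective)).toMonoidHom) (MulEquiv.surjective _)
  · intro b hb
    rw [hKdef, Subgroup.mem_iInf]
    intro p
    rw [Subgroup.mem_iInf]
    intro hp
    rw [Subgroup.mem_centralizer_iff]
    intro x hx
    have h1 : b * x * b⁻¹ = x := by
      have := congrArg Subtype.val (DFunLike.congr_fun (hb p hp) (⟨x, hx⟩ : F p))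
      rwa [MulAut.conjNormal_apply] at this
    exact (mul_inv_eq_iff_eq_mul.mp h1).symm

variable {G : Type u} [Group G] [Finite G] {H : Subgroup G}

theorem hall_of_ti (hTI : Cfsg.IsTISubset (H : Set G))
    (hHall : (Nat.card H).Coprime (H.subgroupOf (Subgroup.normalizer (H : Set G))).index) :
    (Nat.card H).Coprime H.index := by
  refine Nat.coprime_of_dvd fun p hp hpH hpi => ?_
  haveI := Fact.mk hp
  set N := Subgroup.normalizer (H : Set G)
  obtain ⟨S⟩ : Nonempty (Sylow p H) := inferInstance
  set P : Subgroup G := (S : Subgroup H).map H.subtype with hPdef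
  have hPp : IsPGroup p P := S.2.map _
  have hPcard : Nat.card P = p ^ (Nat.card H).factorization p := by
    rw [hPdef, Subgroup.card_map_of_injective H.subtype_injective]; exact S.card_eq_multiplicity
  obtain ⟨T, hPT⟩ := hPp.exists_le_sylow
  have hlt : P < T := by
    refine lt_of_le_of_ne hPT fun e => ?_
    have h1 : Nat.card P = Nat.card (T : Subgroup G) := by rw [e]
    rw [hPcard, T.card_eq_multiplicity, ← H.card_mul_index,
      Nat.factorization_mul Nat.card_pos.ne' Subgroup.index_ne_zero_of_finite, Finsupp.add_apply] at h1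
    have h2 := Nat.pow_right_injective hp.two_le h1
    have h3 := hp.factorization_pos_of_dvd Subgroup.index_ne_zero_of_finite hpi
    omega
  haveI : Group.IsNilpotent (T : Subgroup G) := T.2.isNilpotent
  have hlt' : P.subgroupOf T < ⊤ := lt_top_iff_ne_top.mpr fun e =>
    hlt.not_ge (Subgroup.subgroupOf_eq_top.mp e)
  have hnc := normalizerCondition_of_isNilpotent _ hlt'
  obtain ⟨g, hgN, hgP⟩ := SetLike.exists_of_lt hnc
  have hgN' : (g : G) ∈ Subgroup.normalizer (P : Set G) := by
    refine Subgroup.mem_normalizer_fintype fun w hw => ?_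
    exact ((Subgroup.mem_normalizer_iff (H := P.subgroupOf T)).mp hgN ⟨w, hPT hw⟩).mp hw
  have hgH : (g : G) ∈ N := by
    by_contra hn
    obtain ⟨x, hx⟩ := exists_prime_orderOf_dvd_card' (G := P) p (by
      rw [hPcard]
      exact dvd_pow_self p (hp.factorization_pos_of_dvd Nat.card_pos.ne' hpH).ne')
    have hxH : (x : G) ∈ H := Subgroup.map_subtype_le _ x.2
    have h1 := hTI g hn x hxH (Subgroup.map_subtype_le _
      (((Subgroup.mem_normalizer_iff (H := P)).mp hgN' _).mp x.2))
    rw [← Subgroup.orderOf_coe, h1, orderOf_one] at hx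
    exact hp.ne_one hx.symm
  -- so `P` and `g` generate a larger `p`-subgroup of `N`
  set W : Subgroup G := P ⊔ Subgroup.zpowers (g : G)
  have hWT : W ≤ T := sup_le hPT (Subgroup.zpowers_le.mpr g.2)
  have hWN : W ≤ N := sup_le ((Subgroup.map_subtype_le _).trans Subgroup.le_normalizer) (Subgroup.zpowers_le.mpr hgH)
  have hWcard : Nat.card W ∣ Nat.card N := Subgroup.card_dvd_of_le hWN
  obtain ⟨k, hk⟩ := (T.2.to_le hWT).exists_card_eq
  have hHN : Nat.card N = Nat.card H * (H.subgroupOf N).index := by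
    rw [← (H.subgroupOf N).card_mul_index, Nat.card_congr (Subgroup.subgroupOfEquivOfLe Subgroup.le_normalizer).toEquiv]
  rw [hk, hHN] at hWcard
  have hk' : p ^ k ∣ Nat.card H :=
    (Nat.Coprime.coprime_dvd_left hpH hHall).pow_left k |>.dvd_of_dvd_mul_right hWcard
  have hle := (hp.pow_dvd_iff_le_factorization Nat.card_pos.ne').mp hk'
  have hWP : W = P := by
    refine (Subgroup.eq_of_le_of_card_ge le_sup_left ?_).symm
    rw [hPcard, hk]
    exact Nat.pow_le_pow_right hp.pos hle
  exact hgP (show (g : G) ∈ P from hWP ▸ Subgroup.mem_sup_right (Subgroup.mem_zpowers _))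

theorem main (hTI : Cfsg.IsTISubset (H : Set G)) (hnn : ¬ H.Normal)
    (hHall : (Nat.card H).Coprime (H.subgroupOf (Subgroup.normalizer (H : Set G))).index)
    (hsep : ∃ (n : ℕ) (M : Fin (n + 1) → Subgroup G), M 0 = ⊥ ∧ M (Fin.last n) = ⊤ ∧ Monotone M ∧ (∀ i, (M i).Normal) ∧
      ∀ i : Fin n, (∀ q : ℕ, q.Prime → q ∣ (M i.castSucc).relIndex (M i.succ) → q ∣ Nat.card H) ∨
        ((M i.castSucc).relIndex (M i.succ)).Coprime (Nat.card H))
    (O : Subgroup G) (hO : O = sSup {K : Subgroup G | K.Normal ∧ (Nat.card K).Coprime (Nat.card H)}) :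
    O ⊔ Subgroup.normalizer (H : Set G) = ⊤ ∧ (O ⊔ H).Normal ∧
    (Group.IsSolvable G ↔ Group.IsSolvable O ∧
      ∀ K : Subgroup G, K ≤ H → ¬ Nonempty (K ≃* Matrix.SpecialLinearGroup (Fin 2) (ZMod 5))) := by
  have hall := hall_of_ti hTI hHall
  set N := Subgroup.normalizer (H : Set G)
  haveI hOn : O.Normal := hO ▸ Subgroup.sSup_normal _ (fun _ h => h.1)
  have hOco : (Nat.card O).Coprime (Nat.card H) := hO ▸ sSup_coprime _
  have hH1 : H ≠ ⊥ := fun h => hnn (h ▸ inferInstance)
  have hOH : O ⊓ H = ⊥ := Subgroup.inf_eq_bot_of_coprime hOco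
  set π := QuotientGroup.mk' O
  have hπ : Function.Surjective π := QuotientGroup.mk'_surjective O
  set L := H.map π with hL
  have hinj : Function.Injective (π.comp H.subtype) := (injective_iff_map_eq_one _).mpr fun h hh =>
    Subtype.ext (Subgroup.mem_bot.mp (hOH ▸ ⟨(QuotientGroup.eq_one_iff _).mp hh, h.2⟩ : (h : G) ∈ (⊥ : Subgroup G)))
  have hrange : (π.comp H.subtype).range = L := by rw [MonoidHom.range_comp, Subgroup.range_subtype]
  have hLcard : Nat.card L = Nat.card H := by
    rw [← hrange]; exact (Nat.card_congr (MonoidHom.ofInjective hinj).toEquiv).symm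
  have hLco : (Nat.card L).Coprime L.index := by
    rw [hLcard]
    exact hall.coprime_dvd_right (Subgroup.index_map_dvd _ hπ)
  have hcore : ∀ K : Subgroup (G ⧸ O), K.Normal → (Nat.card K).Coprime (Nat.card L) → K = ⊥ := by
    intro K hKn hKco
    have hle : K.comap π ≤ O := by
      conv_rhs => rw [hO]
      refine le_sSup ⟨inferInstance, ?_⟩
      have h := Subgroup.card_eq_card_quotient_mul_card_subgroup ((π.comp (K.comap π).subtype).ker)
      rw [Nat.card_congr (QuotientGroup.quotientKerEquivRange _).toEquiv, MonoidHom.range_comp, Subgroup.range_subtype,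
        Subgroup.map_comap_eq_self_of_surjective hπ] at h
      rw [h]
      refine Nat.Coprime.mul_left (hLcard ▸ hKco) (hOco.coprime_dvd_left ?_)
      rw [show (π.comp (K.comap π).subtype).ker = π.ker.subgroupOf (K.comap π) from rfl, QuotientGroup.ker_mk',
        Nat.card_congr (Subgroup.subgroupOfEquivOfLe (show O ≤ K.comap π by
          intro x hx; rw [Subgroup.mem_comap, show π x = 1 from (QuotientGroup.eq_one_iff x).mpr hx]; exact one_mem K)).toEquiv]
    rw [← Subgroup.map_comap_eq_self_of_surjective hπ K, eq_bot_iff]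
    rintro _ ⟨x, hx, rfl⟩
    exact Subgroup.mem_bot.mpr ((QuotientGroup.eq_one_iff x).mpr (hle hx))
  -- a normal subgroup of `G ⧸ O` with all its primes among those of `H`
  obtain ⟨R, hRn, hR1, hRp⟩ : ∃ R : Subgroup (G ⧸ O), R.Normal ∧ R ≠ ⊥ ∧
      ∀ q : ℕ, q.Prime → q ∣ Nat.card R → q ∣ Nat.card H := by
    obtain ⟨n, M, h0, hlast, hmono, hn, hfac⟩ := hsep
    have hne : (M (Fin.last n)).map π ≠ ⊥ := by
      rw [hlast, Subgroup.map_top_of_surjective π hπ]
      intro h
      apply hH1
      rw [eq_bot_iff]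
      intro x hx
      have : π x ∈ (⊥ : Subgroup (G ⧸ O)) := h ▸ Subgroup.mem_top _
      exact (hOH ▸ ⟨(QuotientGroup.eq_one_iff x).mp (Subgroup.mem_bot.mp this), hx⟩ : x ∈ (⊥ : Subgroup G))
    obtain ⟨i, hi, hi'⟩ : ∃ i : Fin n, (M i.castSucc).map π = ⊥ ∧ (M i.succ).map π ≠ ⊥ := by
      by_contra hno
      push Not at hno
      exact hne (Fin.induction (motive := fun j => (M j).map π = ⊥) (by rw [h0, Subgroup.map_bot]) hno (Fin.last n))
    haveI := hn i.castSucc
    haveI := hn i.succ
    have hd : Nat.card ((M i.succ).map π) ∣ (M i.castSucc).relIndex (M i.succ) := by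
      have hle : M i.castSucc ≤ O := fun x hx =>
        (QuotientGroup.eq_one_iff x).mp (Subgroup.mem_bot.mp (hi ▸ Subgroup.mem_map_of_mem π hx))
      have h2 : (π.comp (M i.succ).subtype).ker = O.subgroupOf (M i.succ) := by
        rw [show (π.comp (M i.succ).subtype).ker = π.ker.subgroupOf (M i.succ) from rfl, QuotientGroup.ker_mk']
      have h3 : Nat.card ((M i.succ).map π) = O.relIndex (M i.succ) := by
        rw [Subgroup.relIndex, ← h2, Subgroup.index_ker, MonoidHom.range_comp, Subgroup.range_subtype]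
      rw [h3]
      exact Subgroup.relIndex_dvd_of_le_left _ hle
    refine ⟨(M i.succ).map π, Subgroup.Normal.map inferInstance π hπ, hi', ?_⟩
    rcases hfac i with h | h
    · exact fun q hq hqR => h q hq (hqR.trans hd)
    · exact absurd (hcore _ (Subgroup.Normal.map inferInstance π hπ) (hLcard ▸ h.coprime_dvd_left hd)) hi'
  haveI := hRn
  have hRL : R ≤ L := by
    rw [← Subgroup.relIndex_eq_one]
    by_contra h
    obtain ⟨q, hq, hqd⟩ := Nat.exists_prime_and_dvd h
    have h1 : q ∣ Nat.card H := hRp q hq (hqd.trans (Subgroup.relIndex_dvd_card _ _))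
    have h2 : q ∣ L.index := hqd.trans (CfsgLib.Fitting.relIndex_dvd_index_of_normal_right L R)
    exact hq.ne_one (Nat.eq_one_of_dvd_coprimes hLco (hLcard.symm ▸ h1) h2)
  -- the Frattini argument
  obtain ⟨p, hp, hpR⟩ := Nat.exists_prime_and_dvd (fun h => hR1 (Subgroup.card_eq_one.mp h))
  haveI := Fact.mk hp
  set K := R.comap π with hK
  haveI : K.Normal := inferInstance
  obtain ⟨S⟩ : Nonempty (Sylow p (H ⊓ K : Subgroup G)) := inferInstance
  set P : Subgroup G := (S : Subgroup (H ⊓ K : Subgroup G)).map (H ⊓ K).subtype with hP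
  have hPle : P ≤ H ⊓ K := Subgroup.map_subtype_le _
  have hHK : (H ⊓ K).map π = R := by
    refine le_antisymm ?_ fun r hr => ?_
    · rintro _ ⟨x, hx, rfl⟩; exact hx.2
    · obtain ⟨x, hx, rfl⟩ := hRL hr
      exact ⟨x, ⟨hx, hr⟩, rfl⟩
  have hpHK : p ∣ Nat.card (H ⊓ K : Subgroup G) := hpR.trans (hHK ▸ Subgroup.card_map_dvd _ π)
  have hKd : Nat.card (H ⊓ K : Subgroup G) = (Nat.card R) := by
    refine Nat.dvd_antisymm ?_ (hHK ▸ Subgroup.card_map_dvd _ π)
    have hinj' : Function.Injective (π.comp (H ⊓ K).subtype) :=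
      hinj.comp (Subgroup.inclusion_injective (inf_le_left : H ⊓ K ≤ H))
    rw [← hHK, Nat.card_congr (MonoidHom.ofInjective hinj').toEquiv, MonoidHom.range_comp, Subgroup.range_subtype]
  have hKcard : Nat.card K = Nat.card R * Nat.card O := by
    have h := Subgroup.card_eq_card_quotient_mul_card_subgroup ((π.comp K.subtype).ker)
    rw [Nat.card_congr (QuotientGroup.quotientKerEquivRange _).toEquiv, MonoidHom.range_comp, Subgroup.range_subtype,
      Subgroup.map_comap_eq_self_of_surjective hπ,
      show (π.comp K.subtype).ker = π.ker.subgroupOf K from rfl, QuotientGroup.ker_mk',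
      Nat.card_congr (Subgroup.subgroupOfEquivOfLe (show O ≤ K by
        intro x hx; rw [Subgroup.mem_comap, show π x = 1 from (QuotientGroup.eq_one_iff x).mpr hx]; exact one_mem R)).toEquiv] at h
    exact h
  have hPK : P ≤ K := hPle.trans inf_le_right
  have hPp : IsPGroup p (P.subgroupOf K) := (S.2.map _).of_equiv (Subgroup.subgroupOfEquivOfLe hPK).symm
  have hPidx : ¬ p ∣ (P.subgroupOf K).index := by
    have h1 := (P.subgroupOf K).card_mul_index
    rw [Nat.card_congr (Subgroup.subgroupOfEquivOfLe hPK).toEquiv, hP,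
      Subgroup.card_map_of_injective (Subgroup.subtype_injective _), hKcard, ← hKd,
      ← (S : Subgroup (H ⊓ K : Subgroup G)).card_mul_index, mul_assoc] at h1
    rw [Nat.eq_of_mul_eq_mul_left Nat.card_pos h1, Nat.Prime.dvd_mul hp]
    rintro (h | h)
    · exact S.not_dvd_index h
    · exact hp.ne_one (Nat.eq_one_of_dvd_coprimes hOco h (hpHK.trans (Subgroup.card_dvd_of_le inf_le_left)))
  let Q : Sylow p K := hPp.toSylow hPidx
  have hFr := Sylow.normalizer_sup_eq_top Q
  rw [show (Q : Subgroup K).map K.subtype = P from Subgroup.map_subgroupOf_eq_of_le hPK] at hFr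
  have hP1 : P ≠ ⊥ := by
    intro h
    have := (Subgroup.map_eq_bot_iff_of_injective _ (Subgroup.subtype_injective _)).mp h
    exact S.ne_bot_of_dvd_card hpHK this
  obtain ⟨x, hxP, hx1⟩ := (Subgroup.bot_or_exists_ne_one P).resolve_left hP1
  have hNP : Subgroup.normalizer (P : Set G) ≤ N := fun g hg => by
    by_contra hn
    exact hx1 (hTI g hn x (hPle hxP).1 (hPle (((Subgroup.mem_normalizer_iff (H := P)).mp hg x).mp hxP)).1)
  have hKle : K ≤ O ⊔ N := fun g hg => by
    obtain ⟨x, hx, hxg⟩ := hRL hg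
    have : g * x⁻¹ ∈ O := (QuotientGroup.eq_one_iff _).mp (by
      show π (g * x⁻¹) = 1
      rw [map_mul, map_inv, hxg, mul_inv_cancel])
    rw [show g = g * x⁻¹ * x by group]
    exact mul_mem (Subgroup.mem_sup_left this) (Subgroup.mem_sup_right (Subgroup.le_normalizer hx))
  have htop : O ⊔ N = ⊤ := top_unique (hFr ▸ sup_le (hNP.trans le_sup_right) hKle)
  have hOHn : (O ⊔ H).Normal := by
    rw [← Subgroup.normalizer_eq_top_iff, eq_top_iff, ← htop]
    refine sup_le (le_trans (le_sup_left : O ≤ O ⊔ H) Subgroup.le_normalizer) fun g hg => ?_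
    refine Subgroup.mem_normalizer_fintype fun w hw => ?_
    obtain ⟨o, ho, h, hh, rfl⟩ := Subgroup.mem_sup_of_normal_left.mp hw
    rw [show g * (o * h) * g⁻¹ = (g * o * g⁻¹) * (g * h * g⁻¹) by group]
    exact mul_mem (Subgroup.mem_sup_left (hOn.conj_mem o ho g))
      (Subgroup.mem_sup_right (((Subgroup.mem_normalizer_iff (H := H)).mp hg h).mp hh))
  refine ⟨htop, hOHn, fun hG => ?_, ?_⟩
  · haveI := hG
    refine ⟨inferInstance, fun K' _ ⟨e⟩ => ?_⟩
    haveI : Group.IsSolvable (Matrix.SpecialLinearGroup (Fin 2) (ZMod 5)) :=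
      solvable_of_surjective (f := e.toMonoidHom) e.surjective
    haveI : Nontrivial (Matrix.SpecialLinearGroup (Fin 2) (ZMod 5)) :=
      Finite.one_lt_card_iff_nontrivial.mp (by rw [CfsgLib.Classical.card_SL_two, ZMod.card]; norm_num)
    exact not_solvable_of_perfect (CfsgLib.Classical.commutator_SL_eq_top (ι := Fin 2) (F := ZMod 5)
      (Or.inr ⟨2, by decide +kernel, by decide +kernel⟩)) inferInstance
  rintro ⟨hOsol, hSL⟩
  have hne : ¬ O ≤ N := fun h => hnn (by
    refine Subgroup.normalizer_eq_top_iff.mp ?_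
    show N = ⊤
    rw [← htop, sup_eq_right.mpr h])
  have hfpf : HasFpf H := hasFpf_of_ti hTI O hOsol hOco hne
  have hHsol : Group.IsSolvable H := by
    by_contra hns
    obtain ⟨D, -, -, -, -, ⟨e⟩, -⟩ := nonsolvable_structure hfpf hns
    exact hSL (D.map H.subtype) (Subgroup.map_subtype_le _)
      ⟨(D.equivMapOfInjective _ H.subtype_injective).symm.trans e⟩
  let eL : H ≃* L := (MonoidHom.ofInjective hinj).trans (MulEquiv.subgroupCongr hrange)
  haveI : L.Normal := by
    have : L = (O ⊔ H).map π := by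
      rw [Subgroup.map_sup, (Subgroup.map_eq_bot_iff _).mpr (QuotientGroup.ker_mk' O).ge, bot_sup_eq]
    rw [this]
    exact Subgroup.Normal.map hOHn π hπ
  haveI := hHsol
  haveI : Group.IsSolvable (G ⧸ O) := solvable_of_normal_hall L
    (solvable_of_surjective (f := eL.toMonoidHom) eL.surjective)
    (hfpf.of_injective eL.symm.toMonoidHom eL.symm.injective) hLco hcore
  haveI := hOsol
  exact solvable_of_ker_le_range O.subtype π (by rw [QuotientGroup.ker_mk', Subgroup.range_subtype])

end CfsgLib.TIHall
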